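import Cfsg.Agent.H305.TriSuz
import Cfsg.Agent.H408.SporSelf
import Cfsg.Agent.H433.NHMat
import Cfsg.Agent.H981.NHJanko
import Cfsg.Agent.H724.IMJOne
import Cfsg.Agent.H846.NHRows
import Cfsg.Agent.H322.NH.HeRu
import Cfsg.Agent.H433.NHOn
import Cfsg.Agent.H547.SelfCent.McLHS
import Cfsg.Agent.H153.ZerosON
import Cfsg.Agent.H383.W2.M22Fact

/-!
# Transitivity of `Cond` for the Mathieu and Janko groups, `McL`, `HS`, `He`, `Ru`, `O'N` (helper383, input of S4335)
-/

set_option autoImplicit false
open Cfsg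

namespace Cfsg.Agent.H383.TriRow

open Cfsg.Agent.H630.NH Cfsg.Agent.H165.TriRow Cfsg.Agent.H241.NH
open Cfsg.Agent.H408.SporEng (Self)
open Cfsg.Agent.H305.TriSuz (tri_of_isolated nc_of_self)

universe u

/-- all odd primes except `a`, `b` are isolated -/
theorem tri_iso {X : Type u} [Group X] {N : ℕ} (hN : Nat.card X = N) (L : List ℕ) (hL : N.primeFactors = L.toFinset)
    (I : List ℕ) (a b : ℕ) (hI : ∀ p ∈ L, p = 2 ∨ p ∈ I ∨ p = a ∨ p = b) (hN0 : N ≠ 0)
    (h : ∀ p ∈ I, ∀ q ∈ L, q.Prime → q ∣ N → q ≠ 2 → q ≠ p → NC p q X) : Tri X := by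
  refine tri_of_isolated hN I a b (fun p hp => hI p (List.mem_toFinset.1 (hL ▸ hp))) hN0 fun p hp q hq hq2 hqp hd => ?_
  exact h p hp q (List.mem_toFinset.1 (hL ▸ (Nat.mem_primeFactors.2 ⟨hq, hd, hN0⟩))) hq hd hq2 hqp

theorem nc_self {X : Type u} [Group X] [Finite X] {p q N : ℕ} (hN : Nat.card X = N) (hp : p.Prime) (h : Self p X)
    (hq : q.Prime) (hd : q ∣ N) (hqp : q ≠ p) : NC p q X := by
  obtain ⟨x, hx, hc⟩ := h
  exact nc_of_self hN hp hq hqp hd hx hc

open Cfsg.Agent.SporadicA.GolayBase Cfsg.Agent.SporadicA.GolayPerm in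
open Cfsg.Agent.SporadicStructure.M24El Cfsg.Agent.H729.Trans Cfsg.Agent.H729.MData Cfsg.Agent.H729.Count in
open Cfsg.Agent.H729.M24Deg Cfsg.Agent.H729.M22Deg Cfsg.Agent.H729.PairMathieu in
/-- `M23` has no element of order 35 -/
theorem nc_m23 : NC 5 7 Spor.M23 := by
  have hf : Finite Spor.M23 :=
    Nat.finite_of_card_ne_zero (by rw [Cfsg.Agent.SporadicA.MathieuRecog.card_M23]; norm_num)
  have hc := ok_of_pre preN5
  have h3 : (el cN5 : Equiv.Perm GolayPt) none = none := by
    have h := el_smul_pt hc (none : GolayPt)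
    have e : idx none = 23 := rfl
    have e2 : papp cN5 23 = 23 := by decide +kernel
    rw [e, e2] at h
    exact h
  have ho : orderOf (el cN5) = 5 := oM5
  let x : Spor.M23 := ⟨(el cN5 : Equiv.Perm GolayPt), (el cN5).2, h3⟩
  have hx : inc23 x = el cN5 := rfl
  have hx5 : orderOf x = 5 := by rw [← ho, ← hx]; exact (orderOf_injective inc23 inc23_injective x).symm
  refine nc_of_elem (by norm_num) (by norm_num) (by rw [Cfsg.Agent.SporadicA.MathieuRecog.card_M23]; norm_num) hx5
    fun u hu hcu => ?_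
  have h1 := pow_eq_one_of_list inc23 inc23_injective preN5 hx (fun g => st_M23 (by decide +kernel) g) (n := 15)
    powN5 hcu.symm
  have h2 := orderOf_dvd_of_pow_eq_one h1
  rw [hu] at h2
  omega

section

variable {G : Type u} [Group G] [Finite G] [IsSimpleGroup G]

theorem tri_m11 (h : Spor.IsoM11 G) : Tri G := by
  have hN := NotCT.Orders.m11 h
  have hs : Self 11 G := h.elim fun e => Self.congr e.symm H408.SporSelf.m11
  refine tri_iso hN [2, 3, 5, 11] (by decide +kernel) [11] 3 5 (by decide) (by norm_num) ?_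
  intro p hp q _ hq hd _ hqp
  obtain rfl := List.mem_singleton.1 hp
  exact nc_self hN (by norm_num) hs hq hd hqp

theorem tri_m12 (h : Spor.IsoM12 G) : Tri G := by
  have hN := NotCT.Orders.m12 h
  have hs : Self 11 G := h.elim fun e => Self.congr e.symm H408.SporSelf.m12
  refine tri_iso hN [2, 3, 5, 11] (by decide +kernel) [11] 3 5 (by decide) (by norm_num) ?_
  intro p hp q _ hq hd _ hqp
  obtain rfl := List.mem_singleton.1 hp
  exact nc_self hN (by norm_num) hs hq hd hqp

theorem tri_j2 (h : Spor.IsoJ2 G) : Tri G := by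
  have hN := NotCT.Orders.j2 h
  have hs : Self 7 G := h.elim fun e => Self.congr e.symm H408.SporSelf.j2
  refine tri_iso hN [2, 3, 5, 7] (by decide +kernel) [7] 3 5 (by decide) (by norm_num) ?_
  intro p hp q _ hq hd _ hqp
  obtain rfl := List.mem_singleton.1 hp
  exact nc_self hN (by norm_num) hs hq hd hqp

theorem tri_j1 (h : Spor.IsoJ1 G) : Tri G := by
  have hN := NotCT.Orders.j1 h
  refine tri_iso hN [2, 3, 5, 7, 11, 19] (by decide +kernel) [7, 11, 19] 3 5 (by decide) (by norm_num) ?_
  intro p hp q _ hq hd _ hqp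
  obtain ⟨e⟩ := h
  have hN' : Nat.card Spor.J1 = 175560 := by rw [← Nat.card_congr e.toEquiv, hN]
  have hf' : Finite Spor.J1 := Nat.finite_of_card_ne_zero (by rw [hN']; norm_num)
  have hp' : p = 7 ∨ p = 11 ∨ p = 19 := by simpa using hp
  have hpp : p.Prime := by rcases hp' with rfl | rfl | rfl <;> norm_num
  have hF : Fact p.Prime := ⟨hpp⟩
  obtain ⟨x, hx⟩ := exists_prime_orderOf_dvd_card' (G := Spor.J1) p (by
    rw [hN']
    rcases hp' with rfl | rfl | rfl <;> norm_num)
  exact (nc_of_self hN' hpp hq hqp hd hx (H724.IMJOne.cent hp' hx)).congr e.symm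

theorem tri_j3 (h : Spor.IsoJ3 G) : Tri G := by
  have hN := NotCT.Orders.j3 h
  have h17 : Fact (Nat.Prime 17) := ⟨by norm_num⟩
  have hs := H408.SporSelf.j3 h
  have hs' : Self 17 G := by
    obtain ⟨y, hy⟩ := exists_prime_orderOf_dvd_card' (G := G) 17 (by rw [hN]; norm_num)
    exact ⟨y, hy, (H898.J3Cent.seventeen h hy).1⟩
  refine tri_iso hN [2, 3, 5, 17, 19] (by decide +kernel) [17, 19] 3 5 (by decide) (by norm_num) ?_
  intro p hp q _ hq hd _ hqp
  simp only [List.mem_cons, List.not_mem_nil, or_false] at hp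
  rcases hp with rfl | rfl
  · exact nc_self hN (by norm_num) hs' hq hd hqp
  · exact nc_self hN (by norm_num) hs hq hd hqp

theorem tri_m22 (h : Spor.IsoM22 G) : Tri G := by
  have hN := NotCT.Orders.m22 h
  have hs : Self 11 G := h.elim fun e => Self.congr e.symm H408.SporSelf.m22
  have h5 : ∀ {q : ℕ}, q.Prime → q ∣ 443520 → q ≠ 5 → NC 5 q G := by
    intro q hq hd hq5
    obtain ⟨e⟩ := h
    have hN' : Nat.card Spor.M22 = 443520 := by rw [← Nat.card_congr e.toEquiv, hN]
    have hf' : Finite Spor.M22 := W2.finite22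
    obtain ⟨x, hx, hc⟩ := W2.cent5
    refine (nc_of_self hN' (by norm_num) hq hq5 hd hx (le_antisymm hc ?_)).congr e.symm
    have h1 : Subgroup.zpowers x ≤ Subgroup.centralizer ({x} : Set Spor.M22) :=
      Subgroup.zpowers_le.2 (Subgroup.mem_centralizer_singleton_iff.2 rfl)
    have h2 := Subgroup.card_le_of_le h1
    rwa [Nat.card_zpowers, hx] at h2
  refine tri_iso hN [2, 3, 5, 7, 11] (by decide +kernel) [5, 11] 3 7 (by decide) (by norm_num) ?_
  intro p hp q _ hq hd _ hqp
  simp only [List.mem_cons, List.not_mem_nil, or_false] at hp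
  rcases hp with rfl | rfl
  · exact h5 hq hd hqp
  · exact nc_self hN (by norm_num) hs hq hd hqp

open Cfsg.Agent.H433.NHMat Cfsg.Agent.H729.PairMathieu in
theorem tri_m24 (h : Spor.IsoM24 G) : Tri G := by
  have hN := NotCT.Orders.m24 h
  have hs : Self 23 G := h.elim fun e => Self.congr e.symm H408.SporSelf.m24
  have hs' : Self 11 G := h.elim fun e => Self.congr e.symm (by
    have hN' : Nat.card M24 = 244823040 := by rw [← Nat.card_congr e.toEquiv, hN]
    have hf' : Finite M24 := Nat.finite_of_card_ne_zero (by rw [hN']; norm_num)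
    exact Self.of_all (by norm_num) (by rw [hN']; norm_num) fun x hx => card_cent_eleven hx)
  have h37 : NC 3 7 G := h.elim fun e => ((fr37.of_le le_24).congr e.symm).nc (by norm_num) (by norm_num)
  have h35 : NC 3 5 G := h.elim fun e => nc_m24.congr e.symm
  refine tri_iso hN [2, 3, 5, 7, 11, 23] (by decide +kernel) [3, 11, 23] 5 7 (by decide) (by norm_num) ?_
  intro p hp q hqL hq hd hq2 hqp
  simp only [List.mem_cons, List.not_mem_nil, or_false] at hp
  rcases hp with rfl | rfl | rfl
  · simp only [List.mem_cons, List.not_mem_nil, or_false] at hqL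
    rcases hqL with rfl | rfl | rfl | rfl | rfl | rfl
    · exact absurd rfl hq2
    · exact absurd rfl hqp
    · exact h35
    · exact h37
    · exact (nc_self hN (by norm_num) hs' (by norm_num) (by norm_num) (by norm_num)).symm
    · exact (nc_self hN (by norm_num) hs (by norm_num) (by norm_num) (by norm_num)).symm
  · exact nc_self hN (by norm_num) hs' hq hd hqp
  · exact nc_self hN (by norm_num) hs hq hd hqp

open Cfsg.Agent.H433.NHMat Cfsg.Agent.H729.PairMathieu in
theorem tri_m23 (h : Spor.IsoM23 G) : Tri G := by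
  have hN := NotCT.Orders.m23 h
  have hs : Self 23 G := h.elim fun e => Self.congr e.symm H408.SporSelf.m23
  have hs' : Self 11 G := h.elim fun e => Self.congr e.symm (by
    have hN' : Nat.card Spor.M23 = 10200960 := by rw [← Nat.card_congr e.toEquiv, hN]
    have hN2 : Nat.card M24 = 244823040 := NotCT.Orders.m24 ⟨MulEquiv.refl _⟩
    have hf2 : Finite M24 := Nat.finite_of_card_ne_zero (by rw [hN2]; norm_num)
    exact Self.of_hom inc23 inc23_injective (by norm_num) (by rw [hN']; norm_num) fun x hx => card_cent_eleven hx)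
  have h37 : NC 3 7 G := h.elim fun e => ((fr37.of_le le_23).congr e.symm).nc (by norm_num) (by norm_num)
  have h57 : NC 7 5 G := h.elim fun e => nc_m23.symm.congr e.symm
  refine tri_iso hN [2, 3, 5, 7, 11, 23] (by decide +kernel) [7, 11, 23] 3 5 (by decide) (by norm_num) ?_
  intro p hp q hqL hq hd hq2 hqp
  simp only [List.mem_cons, List.not_mem_nil, or_false] at hp
  rcases hp with rfl | rfl | rfl
  · simp only [List.mem_cons, List.not_mem_nil, or_false] at hqL
    rcases hqL with rfl | rfl | rfl | rfl | rfl | rfl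
    · exact absurd rfl hq2
    · exact h37.symm
    · exact h57
    · exact absurd rfl hqp
    · exact (nc_self hN (by norm_num) hs' (by norm_num) (by norm_num) (by norm_num)).symm
    · exact (nc_self hN (by norm_num) hs (by norm_num) (by norm_num) (by norm_num)).symm
  · exact nc_self hN (by norm_num) hs' hq hd hqp
  · exact nc_self hN (by norm_num) hs hq hd hqp

theorem tri_mcl (h : Spor.IsoMcL G) : Tri G := by
  have hN := NotCT.Orders.mcl h
  obtain ⟨h35, h37, h311, h57, h511⟩ := H846.NHRows.mcl_nc h hN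
  refine tri_iso hN [2, 3, 5, 7, 11] (by decide +kernel) [3, 5] 7 11 (by decide) (by norm_num) ?_
  intro p hp q hqL hq hd hq2 hqp
  simp only [List.mem_cons, List.not_mem_nil, or_false] at hp hqL
  rcases hp with rfl | rfl
  · rcases hqL with rfl | rfl | rfl | rfl | rfl
    · exact absurd rfl hq2
    · exact absurd rfl hqp
    · exact h35
    · exact h37
    · exact h311
  · rcases hqL with rfl | rfl | rfl | rfl | rfl
    · exact absurd rfl hq2
    · exact h35.symm
    · exact absurd rfl hqp
    · exact h57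
    · exact h511

theorem tri_hs (h : Spor.IsoHS G) : Tri G := by
  have hN := NotCT.Orders.hs h
  obtain ⟨h3, h7, h11⟩ := H846.NHRows.hs_nc h hN
  have hs : Self 11 G := Self.of_all (by norm_num) (by rw [hN]; norm_num) fun _ hx =>
      H547.SelfCent.McLHS.hs h (H393.Iso.na_hs h) hN hx
  refine tri_iso hN [2, 3, 5, 7, 11] (by decide +kernel) [5, 11] 3 7 (by decide) (by norm_num) ?_
  intro p hp q hqL hq hd hq2 hqp
  simp only [List.mem_cons, List.not_mem_nil, or_false] at hp hqL
  rcases hp with rfl | rfl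
  · rcases hqL with rfl | rfl | rfl | rfl | rfl
    · exact absurd rfl hq2
    · exact h3
    · exact absurd rfl hqp
    · exact h7
    · exact h11
  · exact nc_self hN (by norm_num) hs hq hd hqp

theorem tri_he (h : Spor.IsoHe G) : Tri G := by
  have hN := NotCT.Orders.he h
  obtain ⟨e⟩ := id h
  refine tri_iso hN [2, 3, 5, 7, 17] (by decide +kernel) [7, 17] 3 5 (by decide) (by norm_num) ?_
  intro p hp q hqL hq hd hq2 hqp
  simp only [List.mem_cons, List.not_mem_nil, or_false] at hp hqL
  rcases hp with rfl | rfl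
  · rcases hqL with rfl | rfl | rfl | rfl | rfl
    · exact absurd rfl hq2
    · exact (H322.NH.HeR.nc7 (q := 3) (a := 3) (by norm_num) (by norm_num) (by norm_num) (by norm_num)).congr e.symm
    · exact (H322.NH.HeR.nc7 (q := 5) (a := 1) (by norm_num) (by norm_num) (by norm_num) (by norm_num)).congr e.symm
    · exact absurd rfl hqp
    · exact (H322.NH.HeR.nc7 (q := 17) (a := 1) (by norm_num) (by norm_num) (by norm_num) (by norm_num)).congr e.symm
  · exact (H322.NH.HeR.nc17 hq hqp.symm hd).congr e.symm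

theorem tri_ru (h : Spor.IsoRu G) : Tri G := by
  have hN := NotCT.Orders.ru h
  obtain ⟨e'⟩ := id h
  have e := (e'.trans Cfsg.Agent.RuLat.Main.equiv).symm
  refine tri_iso hN [2, 3, 5, 7, 13, 29] (by decide +kernel) [7, 13, 29] 3 5 (by decide) (by norm_num) ?_
  intro p hp q hqL hq hd hq2 hqp
  simp only [List.mem_cons, List.not_mem_nil, or_false] at hp hqL
  rcases hp with rfl | rfl | rfl
  · refine NC.congr e ?_
    rcases hqL with rfl | rfl | rfl | rfl | rfl | rfl
    · exact absurd rfl hq2
    · exact H322.NH.RuR.nc7 (a := 3) (by norm_num) (by norm_num) (by norm_num) (by norm_num)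
    · exact H322.NH.RuR.nc7 (a := 1) (by norm_num) (by norm_num) (by norm_num) (by norm_num)
    · exact absurd rfl hqp
    · exact H322.NH.RuR.nc7 (a := 1) (by norm_num) (by norm_num) (by norm_num) (by norm_num)
    · exact H322.NH.RuR.nc7 (a := 1) (by norm_num) (by norm_num) (by norm_num) (by norm_num)
  · refine NC.congr e ?_
    rcases hqL with rfl | rfl | rfl | rfl | rfl | rfl
    · exact absurd rfl hq2
    · exact H322.NH.RuR.nc13 (a := 3) (by norm_num) (by norm_num) (by norm_num) (by norm_num)
    · exact H322.NH.RuR.nc13 (a := 1) (by norm_num) (by norm_num) (by norm_num) (by norm_num)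
    · exact H322.NH.RuR.nc13 (a := 1) (by norm_num) (by norm_num) (by norm_num) (by norm_num)
    · exact absurd rfl hqp
    · exact H322.NH.RuR.nc13 (a := 1) (by norm_num) (by norm_num) (by norm_num) (by norm_num)
  · refine NC.congr e ?_
    rcases hqL with rfl | rfl | rfl | rfl | rfl | rfl
    · exact absurd rfl hq2
    · exact H322.NH.RuR.nc29 (a := 1) (by norm_num) (by norm_num) (by norm_num) (by norm_num)
    · exact H322.NH.RuR.nc29 (a := 1) (by norm_num) (by norm_num) (by norm_num) (by norm_num)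
    · exact H322.NH.RuR.nc29 (a := 1) (by norm_num) (by norm_num) (by norm_num) (by norm_num)
    · exact H322.NH.RuR.nc29 (a := 1) (by norm_num) (by norm_num) (by norm_num) (by norm_num)
    · exact absurd rfl hqp

theorem tri_on (h : Spor.IsoON G) : Tri G := by
  have hN := NotCT.Orders.on h
  have hf : Finite Spor.ON := H545.PQ.ONan.finite
  have hN' : Nat.card Spor.ON = 460815505920 := H545.PQ.ONan.card
  obtain ⟨e⟩ := id h
  refine tri_iso hN [2, 3, 5, 7, 11, 19, 31] (by decide +kernel) [5, 7, 11, 19] 3 31 (by decide) (by norm_num) ?_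
  intro p hp q hqL hq hd hq2 hqp
  simp only [List.mem_cons, List.not_mem_nil, or_false] at hp hqL
  rcases hp with rfl | rfl | rfl | rfl
  · refine NC.congr e.symm ?_
    have hF : Fact (Nat.Prime 5) := ⟨by norm_num⟩
    obtain ⟨x, hx⟩ := exists_prime_orderOf_dvd_card' (G := Spor.ON) 5 (by rw [hN']; norm_num)
    have key : ∀ {q a : ℕ}, q.Prime → 5 ≠ q → q ^ a ∣ 460815505920 → ¬ q ^ a ∣ 180 → NC 5 q Spor.ON :=
      fun hq hne hd hnd => nc_of_dvd hq hne hx (by rw [hN']; exact hd) (dvd_of_eq (H474.ONC.card_cent_five hx)) hnd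
    rcases hqL with rfl | rfl | rfl | rfl | rfl | rfl | rfl
    · exact absurd rfl hq2
    · exact key (a := 4) (by norm_num) (by norm_num) (by norm_num) (by norm_num)
    · exact absurd rfl hqp
    · exact key (a := 1) (by norm_num) (by norm_num) (by norm_num) (by norm_num)
    · exact key (a := 1) (by norm_num) (by norm_num) (by norm_num) (by norm_num)
    · exact key (a := 1) (by norm_num) (by norm_num) (by norm_num) (by norm_num)
    · exact key (a := 1) (by norm_num) (by norm_num) (by norm_num) (by norm_num)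
  · refine NC.congr e.symm ?_
    rcases hqL with rfl | rfl | rfl | rfl | rfl | rfl | rfl
    · exact absurd rfl hq2
    · exact H433.NHOn.nc_7_3
    · exact H433.NHOn.nc_x7 (by norm_num) (by norm_num) (by norm_num) H474.ONC.n7_5
    · exact absurd rfl hqp
    · exact H433.NHOn.nc_x7 (by norm_num) (by norm_num) (by norm_num) H474.ONC.n7_11
    · exact H433.NHOn.nc_x7 (by norm_num) (by norm_num) (by norm_num) H474.ONC.n7_19
    · exact H433.NHOn.nc_x7 (by norm_num) (by norm_num) (by norm_num) H474.ONC.n7_31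
  · obtain ⟨x, hx, hc⟩ := H474.ONC.exists_eleven
    exact (nc_of_self hN' (by norm_num) hq hqp hd hx hc).congr e.symm
  · have hF : Fact (Nat.Prime 19) := ⟨by norm_num⟩
    obtain ⟨x, hx⟩ := exists_prime_orderOf_dvd_card' (G := Spor.ON) 19 (by rw [hN']; norm_num)
    exact (nc_of_self hN' (by norm_num) hq hqp hd hx (H153.Zeros.ON19.card_cent hx)).congr e.symm

end

end Cfsg.Agent.H383.TriRow
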